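import Groth.Agent.EtPtsLib.Counit
import Groth.Agent.EtPtsLib.Criteria
import Groth.Agent.FLCLib.ModCriterion
import Groth.Prelude.Def_SixF1

/-! Inverse image of sheaves of modules on small étale sites is exact. -/

set_option autoImplicit false
set_option backward.isDefEq.respectTransparency false
set_option backward.isDefEq.respectTransparency.types false

universe u

open CategoryTheory CategoryTheory.Limits AlgebraicGeometry Opposite

namespace Groth.Agent.EtSixLib

open FLCLib.Mdl

variable {Λ : Type (u + 1)} [CommRing Λ]

theorem mono_iff_mod {X : Scheme.{u}} {F G : EtModW.Mod Λ X} (a : F ⟶ G) :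
    Mono a ↔ ∀ (Ω : Type u) [Field Ω] [IsSepClosed Ω] (ξ : Spec (CommRingCat.of Ω) ⟶ X),
      Function.Injective ((EtModW.stalk Λ ξ).map a) := by
  refine ⟨fun hv Ω _ _ ξ => ?_, fun h => ?_⟩
  · haveI : Presheaf.IsLocallyInjective X.smallEtaleTopology a.hom :=
      haveI : Mono a.hom := (sheafToPresheaf _ _).map_mono a
      Presheaf.isLocallyInjective_of_injective _ _ fun U =>
        (ModuleCat.mono_iff_injective _).1 inferInstance
    exact (Scheme.pointSmallEtale ξ).toPresheafFiber_map_injective a.hom
  · haveI : Sheaf.IsLocallyInjective a :=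
      SitePts.isLocallyInjective (EtPtsLib.detects X) a.hom fun _ => h _ _
    exact Sheaf.mono_of_isLocallyInjective a

variable (Λ) in
theorem preservesFiniteLimits_pull {X Y : Scheme.{u}} (f : X ⟶ Y) :
    PreservesFiniteLimits (EtModW.pull Λ f) := by
  haveI : (EtModW.pull Λ f).PreservesMonomorphisms :=
    ⟨fun {A B} a ha => (mono_iff_mod _).2 fun Ω _ _ ζ => by
      let e := EtPtsLib.pullStalkIso f ζ (ModuleCat.{u + 1} Λ)
      have h := (mono_iff_mod a).1 ha Ω (ζ ≫ f)
      intro x y hxy
      have hinj : Function.Injective (e.hom.app A) :=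
        Function.LeftInverse.injective (g := e.inv.app A) fun z => by
          rw [← ModuleCat.comp_apply, Iso.hom_inv_id_app]; rfl
      apply hinj
      apply h
      have h₁ := ConcreteCategory.congr_hom (e.hom.naturality a) x
      have h₂ := ConcreteCategory.congr_hom (e.hom.naturality a) y
      simp only [ModuleCat.comp_apply] at h₁ h₂
      exact h₁.symm.trans ((congrArg (e.hom.app B) hxy).trans h₂)⟩
  haveI : PreservesColimitsOfSize.{0, 0} (EtModW.pull Λ f) :=
    (EtSix.pullPushModAdj Λ f).leftAdjoint_preservesColimits
  haveI : (EtModW.pull Λ f).PreservesHomology :=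
    Functor.preservesHomology_of_preservesMonos_and_cokernels _
  exact Functor.preservesFiniteLimits_of_preservesHomology _

variable (Λ) in
theorem injective_push {X Y : Scheme.{u}} (f : X ⟶ Y) (I : EtModW.Mod Λ X) [Injective I] :
    Injective ((EtModW.push Λ f).obj I) := by
  haveI := preservesFiniteLimits_pull Λ f
  haveI : (EtModW.pull Λ f).PreservesMonomorphisms := inferInstance
  exact Injective.injective_of_adjoint (EtSix.pullPushModAdj Λ f) I

end Groth.Agent.EtSixLib
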