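import Groth.Agent.EtSixLib.HomSheaf
import Groth.Prelude.Def_SixF2
import Mathlib.CategoryTheory.Adjunction.Restrict
import Mathlib.CategoryTheory.Adjunction.Whiskering

/-! Cohomology of a sheaf of modules is that of the underlying abelian sheaf. -/

set_option autoImplicit false
set_option backward.isDefEq.respectTransparency false
set_option synthInstance.maxHeartbeats 200000
set_option maxHeartbeats 1000000

universe u

open CategoryTheory CategoryTheory.Limits AlgebraicGeometry Opposite CategoryTheory.Abelian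

namespace Groth.Agent.EtSixLib

variable (Λ : Type (u + 1)) [CommRing Λ]

/-- `Hom(Λ, A)` as a `Λ`-module. -/
def CoInd (A : AddCommGrpCat.{u + 1}) : Type (u + 1) := Λ →+ A

noncomputable instance (A : AddCommGrpCat.{u + 1}) : AddCommGroup (CoInd Λ A) :=
  inferInstanceAs (AddCommGroup (Λ →+ A))

variable {Λ}

/-- elements as homomorphisms -/
abbrev CoInd.hom {A : AddCommGrpCat.{u + 1}} (f : CoInd Λ A) : Λ →+ A := f

noncomputable instance (A : AddCommGrpCat.{u + 1}) : Module Λ (CoInd Λ A) where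
  smul r f := f.hom.comp (AddMonoidHom.mulLeft r)
  one_smul f := AddMonoidHom.ext fun x => congrArg f.hom (one_mul x)
  mul_smul r s f := AddMonoidHom.ext fun x => congrArg f.hom (show s * (r * x) = _ by
    change s * (r * x) = r * s * x; ring) |>.symm
  smul_zero r := AddMonoidHom.ext fun x => rfl
  smul_add r f g := AddMonoidHom.ext fun x => rfl
  add_smul r s f := AddMonoidHom.ext fun x =>
    (congrArg f.hom (add_mul r s x)).trans (map_add f.hom _ _)
  zero_smul f := AddMonoidHom.ext fun x => (congrArg f.hom (zero_mul x)).trans (map_zero f.hom)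

theorem CoInd.smul_hom {A : AddCommGrpCat.{u + 1}} (r : Λ) (f : CoInd Λ A) (x : Λ) :
    (r • f).hom x = f.hom (r * x) := rfl

variable (Λ) in
/-- coinduction `A ↦ Hom(Λ, A)` -/
noncomputable def coind : AddCommGrpCat.{u + 1} ⥤ ModuleCat.{u + 1} Λ where
  obj A := ModuleCat.of Λ (CoInd Λ A)
  map g := ModuleCat.ofHom
    { toFun := fun f => g.hom.comp f.hom
      map_add' := fun f f' => AddMonoidHom.ext fun x => map_add g.hom _ _
      map_smul' := fun r f => rfl }

variable (Λ) in
/-- forgetting is left adjoint to coinduction -/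
noncomputable def forgetCoindAdj :
    forget₂ (ModuleCat.{u + 1} Λ) AddCommGrpCat.{u + 1} ⊣ coind Λ :=
  Adjunction.mkOfHomEquiv
    { homEquiv := fun M A =>
        { toFun := fun φ => ModuleCat.ofHom
            { toFun := fun m => (φ.hom.comp ((smulAddHom Λ M).flip m) : Λ →+ A)
              map_add' := fun m m' => AddMonoidHom.ext fun x => by
                change φ.hom (x • (m + m')) = φ.hom (x • m) + φ.hom (x • m')
                rw [smul_add]; exact map_add φ.hom _ _
              map_smul' := fun r m => AddMonoidHom.ext fun x => by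
                change φ.hom (x • r • m) = φ.hom ((r * x) • m)
                rw [smul_smul, mul_comm] }
          invFun := fun ψ => AddCommGrpCat.ofHom
            { toFun := fun m => (ψ.hom m : CoInd Λ A).hom 1
              map_zero' := by rw [map_zero]; rfl
              map_add' := fun m m' => by rw [map_add]; rfl }
          left_inv := fun φ => by
            ext m
            change φ.hom ((1 : Λ) • m) = φ.hom m
            rw [one_smul]
          right_inv := fun ψ => by
            refine ModuleCat.hom_ext (LinearMap.ext fun m => AddMonoidHom.ext fun x => ?_)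
            change (ψ.hom (x • m) : CoInd Λ A).hom 1 = (ψ.hom m : CoInd Λ A).hom x
            rw [map_smul, CoInd.smul_hom, mul_one] }
      homEquiv_naturality_left_symm := fun f g => rfl
      homEquiv_naturality_right := fun f g => rfl }

variable {X : Scheme.{u}}

instance : (coind Λ).IsRightAdjoint := (forgetCoindAdj Λ).isRightAdjoint

instance : PreservesLimitsOfSize.{u, u + 1} (coind Λ) :=
  (forgetCoindAdj Λ).rightAdjoint_preservesLimits

variable (Λ X) in
/-- coinduction of sheaves -/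
noncomputable abbrev coindSheaf : EtCoh.Ab X ⥤ EtModW.Mod Λ X :=
  sheafCompose X.smallEtaleTopology (coind Λ)

variable (Λ X) in
/-- forgetting sheaves of modules is left adjoint to coinduction -/
noncomputable def sheafForgetCoindAdj : EtModD.forgetToAb Λ X ⊣ coindSheaf Λ X :=
  ((forgetCoindAdj Λ).whiskerRight X.Etaleᵒᵖ).restrictFullyFaithful
    (fullyFaithfulSheafToPresheaf _ _) (fullyFaithfulSheafToPresheaf _ _)
    (Iso.refl _) (Iso.refl _)

/-- `forget ∘ coind = Hom(Λ, -)` -/
noncomputable def forgetCoindIso (J : EtCoh.Ab X) :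
    (EtModD.forgetToAb Λ X).obj ((coindSheaf Λ X).obj J) ≅
      (homSheaf (AddCommGrpCat.of Λ)).obj J :=
  (fullyFaithfulSheafToPresheaf _ _).preimageIso
    (NatIso.ofComponents (fun U => AddEquiv.toAddCommGrpIso
      { toFun := fun f => (AddCommGrpCat.ofHom (CoInd.hom f) : AddCommGrpCat.of Λ ⟶ J.obj.obj U)
        invFun := fun g => (AddCommGrpCat.Hom.hom (ev (M := AddCommGrpCat.of Λ) g) : CoInd Λ (J.obj.obj U))
        left_inv := fun f => rfl
        right_inv := fun g => rfl
        map_add' := fun f g => rfl }) (fun i => rfl))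

variable [PreservesFiniteLimits (EtModD.forgetToAb Λ X)]
  [PreservesFiniteColimits (EtModD.forgetToAb Λ X)] [(EtModD.forgetToAb Λ X).Additive]

/-- The underlying abelian sheaf of an injective sheaf of modules is acyclic. -/
theorem subsingleton_H_forget_injective (I : EtModW.Mod Λ X) [Injective I] (n : ℕ) :
    Subsingleton (EtCoh.H X ((EtModD.forgetToAb Λ X).obj I) (n + 1)) := by
  let G := EtModD.forgetToAb Λ X
  let J := Injective.under (G.obj I)
  let i : I ⟶ (coindSheaf Λ X).obj J := (sheafForgetCoindAdj Λ X).homEquiv _ _ (Injective.ι _)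
  haveI : G.Faithful := inferInstance
  haveI : Mono i := by
    refine G.mono_of_mono_map ?_
    have h : G.map i ≫ (sheafForgetCoindAdj Λ X).counit.app J = Injective.ι (G.obj I) :=
      ((sheafForgetCoindAdj Λ X).homEquiv_counit _ _ _).symm.trans
        (Equiv.symm_apply_apply _ _)
    exact mono_of_mono_fac h
  let p : (coindSheaf Λ X).obj J ⟶ I := Injective.factorThru (𝟙 I) i
  have hr : i ≫ p = 𝟙 I := Injective.comp_factorThru _ _
  haveI := subsingleton_H_homSheaf n (AddCommGrpCat.of Λ) J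
  refine subsingleton_of_forall_eq 0 fun x => ?_
  let q := G.map i ≫ (forgetCoindIso J).hom
  let q' := (forgetCoindIso J).inv ≫ G.map p
  have hq : q ≫ q' = 𝟙 (G.obj I) := by
    simp only [q, q', Category.assoc, Iso.hom_inv_id_assoc, ← G.map_comp, hr, G.map_id]
  have : x = (x.comp (Ext.mk₀ q) (add_zero _)).comp (Ext.mk₀ q') (add_zero _) := by
    rw [Ext.comp_assoc_of_third_deg_zero, Ext.mk₀_comp_mk₀, hq, Ext.comp_mk₀_id]
  rw [this, Subsingleton.elim (α := EtCoh.H X ((homSheaf (AddCommGrpCat.of Λ)).obj J) (n + 1))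
    (x.comp (Ext.mk₀ q) (add_zero _)) 0, Ext.zero_comp]

theorem HModToH_mk₀ {F : EtModW.Mod Λ X} (φ : EtModW.constMod Λ X Λ ⟶ F) :
    EtSix.HModToH Λ F 0 (Ext.mk₀ φ) =
      Ext.mk₀ (EtSix.intToConstΛ Λ X ≫ (EtModD.forgetToAb Λ X).map φ) := by
  change (Ext.mk₀ (EtSix.intToConstΛ Λ X)).comp ((Ext.mk₀ φ).mapExactFunctor _) (zero_add 0) = _
  rw [Ext.mapExactFunctor_mk₀, Ext.mk₀_comp_mk₀]

theorem bijective_HModToH_zero (F : EtModW.Mod Λ X) :
    Function.Bijective (EtSix.HModToH Λ F 0) := by
  let adjM := EtSix.constModAdj Λ X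
  let adjA := EtCore.constAdj X
  let G := EtModD.forgetToAb Λ X
  have key : ∀ (φ : EtModW.constMod Λ X Λ ⟶ F),
      adjA.homEquiv _ (G.obj F) (EtSix.intToConstΛ Λ X ≫ G.map φ) ⟨1⟩ =
        (adjM.homEquiv (ModuleCat.of Λ Λ) F φ).hom (1 : Λ) := fun φ => by
    rw [adjA.homEquiv_naturality_right, EtSix.intToConstΛ, Equiv.apply_symm_apply,
      adjM.homEquiv_unit]
    change φ.hom.app (op (EtCoh.top X)) ((1 : ℤ) • _) = φ.hom.app (op (EtCoh.top X)) _
    rw [one_zsmul]
    rfl
  refine ⟨fun a b hab => ?_, fun y => ?_⟩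
  · obtain ⟨φ, rfl⟩ := (Ext.mk₀_bijective _ _).2 a
    obtain ⟨ψ, rfl⟩ := (Ext.mk₀_bijective _ _).2 b
    rw [HModToH_mk₀, HModToH_mk₀] at hab
    have h := (Ext.mk₀_bijective _ _).1 hab
    congr 1
    refine (adjM.homEquiv (ModuleCat.of Λ Λ) F).injective (ModuleCat.hom_ext (LinearMap.ext_ring ?_))
    rw [← key φ, ← key ψ, h]
  · obtain ⟨χ, rfl⟩ := (Ext.mk₀_bijective _ _).2 y
    let s := adjA.homEquiv _ (G.obj F) χ ⟨1⟩
    let ρ : ModuleCat.of Λ Λ ⟶ F.obj.obj (op (EtCoh.top X)) :=
      ModuleCat.ofHom (LinearMap.toSpanSingleton Λ _ (show F.obj.obj (op (EtCoh.top X)) from s))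
    refine ⟨Ext.mk₀ ((adjM.homEquiv (ModuleCat.of Λ Λ) F).symm ρ), ?_⟩
    rw [HModToH_mk₀]
    congr 1
    refine (adjA.homEquiv _ (G.obj F)).injective (AddCommGrpCat.hom_ext ?_)
    have h1 := key ((adjM.homEquiv (ModuleCat.of Λ Λ) F).symm ρ)
    rw [Equiv.apply_symm_apply] at h1
    refine AddMonoidHom.ext fun k => ?_
    obtain ⟨k⟩ := k
    have hk : (⟨k⟩ : ULift.{u + 1} ℤ) = k • ⟨1⟩ := ULift.ext _ _ (by simp)
    rw [hk, map_zsmul, map_zsmul]
    congr 1
    exact h1.trans (one_smul Λ (show F.obj.obj (op (EtCoh.top X)) from s))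

theorem HModToH_comp_mk₀ {F F' : EtModW.Mod Λ X} {n : ℕ} (x : EtSix.HMod Λ X F n) (φ : F ⟶ F') :
    EtSix.HModToH Λ F' n (x.comp (Ext.mk₀ φ) (add_zero n)) =
      (EtSix.HModToH Λ F n x).comp (Ext.mk₀ ((EtModD.forgetToAb Λ X).map φ)) (add_zero n) := by
  change (Ext.mk₀ (EtSix.intToConstΛ Λ X)).comp ((x.comp (Ext.mk₀ φ) (add_zero n)).mapExactFunctor _)
      (zero_add n) = ((Ext.mk₀ (EtSix.intToConstΛ Λ X)).comp (x.mapExactFunctor _) (zero_add n)).comp _ _
  rw [Ext.mapExactFunctor_comp, Ext.mapExactFunctor_mk₀, Ext.comp_assoc_of_third_deg_zero]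

theorem HModToH_comp_extClass {S : ShortComplex (EtModW.Mod Λ X)} (hS : S.ShortExact) {n : ℕ}
    (x : EtSix.HMod Λ X S.X₃ n) :
    EtSix.HModToH Λ S.X₁ (n + 1) (x.comp hS.extClass rfl) =
      (EtSix.HModToH Λ S.X₃ n x).comp (hS.map_of_exact (EtModD.forgetToAb Λ X)).extClass rfl := by
  change (Ext.mk₀ (EtSix.intToConstΛ Λ X)).comp ((x.comp hS.extClass rfl).mapExactFunctor _)
      (zero_add (n + 1)) =
    ((Ext.mk₀ (EtSix.intToConstΛ Λ X)).comp (x.mapExactFunctor _) (zero_add n)).comp _ _
  rw [Ext.mapExactFunctor_comp, Ext.mapExactFunctor_extClass, Ext.comp_assoc]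
  all_goals omega

theorem bijective_HModToH (n : ℕ) : ∀ F : EtModW.Mod Λ X,
    Function.Bijective (EtSix.HModToH Λ F n) := by
  induction n with
  | zero => exact bijective_HModToH_zero
  | succ n ih =>
    intro F
    let S := ShortComplex.mk (Injective.ι F) (cokernel.π (Injective.ι F)) (cokernel.condition _)
    have hS : S.ShortExact :=
      { exact := ShortComplex.exact_cokernel _
        mono_f := inferInstanceAs (Mono (Injective.ι F))
        epi_g := inferInstanceAs (Epi (cokernel.π (Injective.ι F))) }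
    haveI : Injective S.X₂ := inferInstanceAs (Injective (Injective.under F))
    have hS' := hS.map_of_exact (EtModD.forgetToAb Λ X)
    refine ⟨(injective_iff_map_eq_zero _).2 fun x hx => ?_, fun y => ?_⟩
    · obtain ⟨x₃, rfl⟩ := Ext.covariant_sequence_exact₁ _ hS x (Ext.eq_zero_of_injective _)
        (rfl : n + 1 = n + 1)
      rw [HModToH_comp_extClass hS] at hx
      obtain ⟨y₂, hy₂⟩ := Ext.covariant_sequence_exact₃ _ hS' _ (rfl : n + 1 = n + 1) hx
      obtain ⟨x₂, rfl⟩ := (ih S.X₂).2 y₂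
      have : x₂.comp (Ext.mk₀ S.g) (add_zero n) = x₃ := (ih S.X₃).1 (by
        rw [HModToH_comp_mk₀]; exact hy₂)
      rw [← this, Ext.comp_assoc_of_second_deg_zero, ShortComplex.ShortExact.comp_extClass,
        Ext.comp_zero]
    · haveI := subsingleton_H_forget_injective S.X₂ n
      obtain ⟨y₃, hy₃⟩ := Ext.covariant_sequence_exact₁ _ hS' y
        (Subsingleton.elim (α := EtCoh.H X ((EtModD.forgetToAb Λ X).obj S.X₂) (n + 1)) _ _)
        (rfl : n + 1 = n + 1)
      obtain ⟨x₃, rfl⟩ := (ih S.X₃).2 y₃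
      exact ⟨x₃.comp hS.extClass rfl, (HModToH_comp_extClass hS x₃).trans hy₃⟩

end Groth.Agent.EtSixLib
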