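import Groth.Agent.CohDerAcyc.UnitIff
import Groth.Prelude.Def_SixF1

/-! The composition morphism of bounded below derived functors. -/

set_option autoImplicit false
set_option backward.isDefEq.respectTransparency false

universe v₁ v₂ v₃ u₁ u₂ u₃

open CategoryTheory CategoryTheory.Limits

attribute [local instance] HasDerivedCategory.standard

namespace Groth.Agent.EtSixLib

variable {A : Type u₁} [Category.{v₁} A] [Abelian A] {B : Type u₂} [Category.{v₂} B] [Abelian B]
  {C : Type u₃} [Category.{v₃} C] [Abelian C] [EnoughInjectives A] [EnoughInjectives B]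
  {F : A ⥤ B} {G : B ⥤ C} {H : A ⥤ C} [F.Additive] [G.Additive] [H.Additive]
  [PreservesFiniteLimits G]

theorem isIso_plusNatTrans_app {F' : A ⥤ C} [F'.Additive] (α : H ⟶ F') [IsIso α]
    (K : HomotopyCategory.Plus A) : IsIso ((EtSix.plusNatTrans α).app K) := by
  have h : IsIso ((HomotopyCategory.plus C).ι.map ((EtSix.plusNatTrans α).app K)) := by
    have e : (HomotopyCategory.plus C).ι.map ((EtSix.plusNatTrans α).app K) =
        (NatTrans.mapHomotopyCategory α (ComplexShape.up ℤ)).app K.obj :=
      congr_arg (fun t => NatTrans.app t K)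
        ((((HomotopyCategory.plus C).fullyFaithfulι.whiskeringRight
          (HomotopyCategory.Plus A))).map_preimage
            (X := H.mapHomotopyCategoryPlus) (Y := F'.mapHomotopyCategoryPlus)
            (Functor.whiskerLeft (HomotopyCategory.Plus.ι A)
              (NatTrans.mapHomotopyCategory α (ComplexShape.up ℤ))))
    rw [e]
    let φ := (NatTrans.mapHomologicalComplex α (ComplexShape.up ℤ)).app K.obj.as
    haveI : ∀ i, IsIso (φ.f i) := fun i => inferInstanceAs (IsIso (α.app (K.obj.as.X i)))
    haveI := HomologicalComplex.Hom.isIso_of_components φ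
    exact inferInstanceAs (IsIso ((HomotopyCategory.quotient C (ComplexShape.up ℤ)).map φ))
  exact @isIso_of_fully_faithful _ _ _ _ (HomotopyCategory.plus C).ι _ _ _ _ _ h

/-- If `F` preserves injectives then `R⁺(G ∘ F) ⟶ R⁺G ∘ R⁺F` is an isomorphism. -/
theorem isIso_rPlusDesc₂ (θ : H ⟶ F ⋙ G) [IsIso θ]
    (hF : ∀ I : A, Injective I → Injective (F.obj I)) : IsIso (EtSix.rPlusDesc₂ θ) := by
  have hα : ∀ K : HomotopyCategory.Plus (InjectiveObject A),
      IsIso ((EtSix.rPlusUnit₂ θ).app ((InjectiveObject.ι A).mapHomotopyCategoryPlus.obj K)) :=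
    fun K => by
      obtain ⟨L, rfl⟩ := HomotopyCategory.Plus.quotient_obj_surjective K
      haveI h1 : IsIso (F.rightDerivedFunctorPlusUnit.app ((InjectiveObject.ι A).mapHomotopyCategoryPlus.obj
          ((HomotopyCategory.Plus.quotient (InjectiveObject A)).obj L))) := inferInstance
      haveI h2 : IsIso (G.rightDerivedFunctorPlusUnit.app (F.mapHomotopyCategoryPlus.obj
          ((InjectiveObject.ι A).mapHomotopyCategoryPlus.obj
            ((HomotopyCategory.Plus.quotient (InjectiveObject A)).obj L)))) :=
        CohDerAcyc.isIso_unit_of_acyclic G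
          (F.mapCochainComplexPlus.obj ((InjectiveObject.ι A).mapCochainComplexPlus.obj L))
          (fun m i hi => by
            obtain ⟨i, rfl⟩ := Nat.exists_eq_add_one_of_ne_zero hi.ne'
            haveI : Injective ((F.mapCochainComplexPlus.obj
                ((InjectiveObject.ι A).mapCochainComplexPlus.obj L)).obj.X m) :=
              hF _ (L.obj.X m).property
            exact G.isZero_rightDerived_obj_injective_succ i _)
      haveI h3 := isIso_plusNatTrans_app θ ((InjectiveObject.ι A).mapHomotopyCategoryPlus.obj
        ((HomotopyCategory.Plus.quotient (InjectiveObject A)).obj L))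
      simp only [EtSix.rPlusUnit₂, NatTrans.comp_app, Functor.associator_hom_app,
        Functor.associator_inv_app, Functor.whiskerLeft_app, Functor.whiskerRight_app]
      infer_instance
  haveI : ∀ X, IsIso ((EtSix.rPlusDesc₂ θ).app X) := fun X => by
    obtain ⟨K, ⟨e⟩⟩ := Functor.EssSurj.mem_essImage (F := SpSeqLib.injToPlus A) X
    refine (NatTrans.isIso_app_iff_of_iso _ e).1 ?_
    have h := H.rightDerivedFunctorPlus.rightDerived_fac_app
      H.rightDerivedFunctorPlusUnit (HomotopyCategory.Plus.quasiIso A) _ (EtSix.rPlusUnit₂ θ)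
      ((InjectiveObject.ι A).mapHomotopyCategoryPlus.obj K)
    haveI := hα K
    exact IsIso.of_isIso_fac_left h
  exact NatIso.isIso_of_isIso_app _

end Groth.Agent.EtSixLib
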