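import Groth.Agent.KInj.DerivedAdj
import Groth.Agent.S0101
import Groth.Prelude.Def_SixF1

/-! Composition of unbounded derived direct images of abelian étale sheaves. -/

set_option autoImplicit false
set_option backward.isDefEq.respectTransparency false

universe u

open CategoryTheory CategoryTheory.Limits AlgebraicGeometry

attribute [local instance] HasDerivedCategory.standard

namespace Groth.Agent.EtSixLib

section

variable {A B : Type*} [Category A] [Category B] [Abelian A] [Abelian B] {F : A ⥤ B} {G : B ⥤ A}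
  (adj : F ⊣ G) [F.Additive] [G.Additive] [PreservesFiniteLimits F] [PreservesFiniteColimits F]

include adj in
theorem isKInjective_map_of_adjoint (I : CochainComplex B ℤ) [I.IsKInjective] :
    CochainComplex.IsKInjective ((G.mapHomologicalComplex (ComplexShape.up ℤ)).obj I) := by
  refine ⟨fun {K} φ hK => ⟨HomotopyCategory.homotopyOfEq _ _ ?_⟩⟩
  haveI : F.PreservesHomology := inferInstance
  have hFK : ((F.mapHomologicalComplex (ComplexShape.up ℤ)).obj K).Acyclic := fun n =>
    (hK n).map F
  let e := (KInj.homotopyAdjunction adj).homEquiv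
    ((HomotopyCategory.quotient A (ComplexShape.up ℤ)).obj K)
    ((HomotopyCategory.quotient B (ComplexShape.up ℤ)).obj I)
  obtain ⟨ψ, hψ⟩ := e.surjective ((HomotopyCategory.quotient A (ComplexShape.up ℤ)).map φ)
  have hψ0 : ψ = 0 := by
    obtain ⟨ψ', rfl⟩ := (HomotopyCategory.quotient B (ComplexShape.up ℤ)).map_surjective ψ
    exact (HomotopyCategory.eq_of_homotopy _ _
      (CochainComplex.IsKInjective.homotopyZero ψ' hFK)).trans (Functor.map_zero _ _ _)
  rw [← hψ, hψ0, Functor.map_zero]
  simp [e, Adjunction.homEquiv_unit]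

end

theorem isIso_mapHomotopyCategory_app {A C : Type*} [Category A] [Category C] [Abelian A]
    [Abelian C] {H H' : A ⥤ C} [H.Additive] [H'.Additive] (α : H ⟶ H') [IsIso α]
    (K : HomotopyCategory A (ComplexShape.up ℤ)) :
    IsIso ((NatTrans.mapHomotopyCategory α (ComplexShape.up ℤ)).app K) := by
  let φ := (NatTrans.mapHomologicalComplex α (ComplexShape.up ℤ)).app K.as
  haveI : ∀ i, IsIso (φ.f i) := fun i => inferInstanceAs (IsIso (α.app (K.as.X i)))
  haveI := HomologicalComplex.Hom.isIso_of_components φ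
  exact inferInstanceAs (IsIso ((HomotopyCategory.quotient C (ComplexShape.up ℤ)).map φ))

theorem isIso_compMap {X Y Z : Scheme.{u}} (f : X ⟶ Y) (g : Y ⟶ Z)
    [DCoh.HasRpushEt X f] [DCoh.HasRpushEt Y g] [DCoh.HasRpushEt X (f ≫ g)] :
    IsIso (EtSix.compMap f g) := by
  haveI : PreservesFiniteLimits (EtCoh.pull f) := S0101.result f
  let hX := KInj.hres_of_isGrothendieckAbelian (EtCoh.Ab X)
  let hY := KInj.hres_of_isGrothendieckAbelian (EtCoh.Ab Y)
  have hα : ∀ I : CochainComplex (EtCoh.Ab X) ℤ, I.IsKInjective → IsIso ((EtSix.compUnit f g).app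
      ((HomotopyCategory.quotient (EtCoh.Ab X) (ComplexShape.up ℤ)).obj I)) := fun I hI => by
    haveI := hI
    haveI := isKInjective_map_of_adjoint (EtCoh.pullPushAdj f) I
    haveI h1 := KInj.isIso_app_of_isKInjective hX _ (DCoh.RpushEt X f)
      ((DCoh.pushEtKh X f).totalRightDerivedUnit DerivedCategory.Qh
        (HomotopyCategory.quasiIso (EtCoh.Ab X) (ComplexShape.up ℤ))) I
    haveI h2 : IsIso (((DCoh.pushEtKh Y g).totalRightDerivedUnit DerivedCategory.Qh
        (HomotopyCategory.quasiIso (EtCoh.Ab Y) (ComplexShape.up ℤ))).app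
        (((EtCoh.push f).mapHomotopyCategory (ComplexShape.up ℤ)).obj
          ((HomotopyCategory.quotient (EtCoh.Ab X) (ComplexShape.up ℤ)).obj I))) :=
      KInj.isIso_app_of_isKInjective hY _ (DCoh.RpushEt Y g) _
        (((EtCoh.push f).mapHomologicalComplex (ComplexShape.up ℤ)).obj I)
    haveI h3 := isIso_mapHomotopyCategory_app (EtCoh.pushComp g f).inv
      ((HomotopyCategory.quotient (EtCoh.Ab X) (ComplexShape.up ℤ)).obj I)
    simp only [EtSix.compUnit, NatTrans.comp_app, Functor.associator_hom_app,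
      Functor.associator_inv_app, Functor.whiskerLeft_app, Functor.whiskerRight_app]
    infer_instance
  haveI : ∀ T, IsIso ((EtSix.compMap f g).app T) := fun T => by
    refine (NatTrans.isIso_app_iff_of_iso _ (KInj.modelIso hX T)).1 ?_
    haveI := hα (KInj.model hX T) (KInj.isKInjective_model hX T)
    haveI := KInj.isKInjective_model hX T
    haveI := KInj.isIso_app_of_isKInjective hX _ (DCoh.RpushEt X (f ≫ g))
      ((DCoh.pushEtKh X (f ≫ g)).totalRightDerivedUnit DerivedCategory.Qh
        (HomotopyCategory.quasiIso (EtCoh.Ab X) (ComplexShape.up ℤ))) (KInj.model hX T)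
    exact IsIso.of_isIso_fac_left ((DCoh.RpushEt X (f ≫ g)).rightDerived_fac_app
      ((DCoh.pushEtKh X (f ≫ g)).totalRightDerivedUnit DerivedCategory.Qh
        (HomotopyCategory.quasiIso (EtCoh.Ab X) (ComplexShape.up ℤ)))
      (HomotopyCategory.quasiIso (EtCoh.Ab X) (ComplexShape.up ℤ)) _ (EtSix.compUnit f g)
      ((HomotopyCategory.quotient (EtCoh.Ab X) (ComplexShape.up ℤ)).obj (KInj.model hX T)))
  exact NatIso.isIso_of_isIso_app _

end Groth.Agent.EtSixLib
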