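import Groth.Prelude.Def_EtCore
import Mathlib.Algebra.Category.Grp.Injective
import Mathlib.CategoryTheory.Preadditive.Yoneda.Limits
import Mathlib.CategoryTheory.Adjunction.Evaluation
import Mathlib.Algebra.Category.Grp.AB
import Mathlib.Algebra.Homology.DerivedCategory.Ext.EnoughInjectives

/-! The sheaf `U ↦ Hom(M, J U)` is acyclic for an injective abelian sheaf `J`. -/

set_option autoImplicit false
set_option backward.isDefEq.respectTransparency false
set_option synthInstance.maxHeartbeats 200000
set_option maxHeartbeats 1000000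

universe u

open CategoryTheory CategoryTheory.Limits AlgebraicGeometry Opposite CategoryTheory.Abelian

namespace Groth.Agent.EtSixLib

variable {X : Scheme.{u}}

/-- `A ↦ Hom(M, A)`. -/
noncomputable def homFrom (M : AddCommGrpCat.{u + 1}) : AddCommGrpCat.{u + 1} ⥤ AddCommGrpCat.{u + 1} :=
  preadditiveCoyoneda.obj (op M)

noncomputable instance (M : AddCommGrpCat.{u + 1}) :
    PreservesLimitsOfSize.{u + 1, u + 1} (homFrom M) := by
  dsimp only [homFrom]; infer_instance

instance (M : AddCommGrpCat.{u + 1}) : PreservesLimitsOfSize.{u, u + 1} (homFrom M) :=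
  preservesLimitsOfSize_shrink.{u + 1, u + 1, u, u + 1} (homFrom M)

/-- The sheaf `U ↦ Hom(M, J U)`. -/
noncomputable abbrev homSheaf (M : AddCommGrpCat.{u + 1}) : EtCoh.Ab X ⥤ EtCoh.Ab X :=
  sheafCompose X.smallEtaleTopology (homFrom M)

/-- sections of `homSheaf` as homomorphisms -/
abbrev ev {M : AddCommGrpCat.{u + 1}} {J : EtCoh.Ab X} {U : X.Etaleᵒᵖ}
    (h : ((homSheaf M).obj J).obj.obj U) : M ⟶ J.obj.obj U := h

/-- contravariance in `M` -/
noncomputable def homSheafMap {M N : AddCommGrpCat.{u + 1}} (φ : M ⟶ N) (J : EtCoh.Ab X) :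
    (homSheaf N).obj J ⟶ (homSheaf M).obj J :=
  ⟨Functor.whiskerLeft J.obj (preadditiveCoyoneda.map φ.op)⟩

theorem homSheafMap_app {M N : AddCommGrpCat.{u + 1}} (φ : M ⟶ N) (J : EtCoh.Ab X)
    (U : X.Etaleᵒᵖ) (h : N ⟶ J.obj.obj U) :
    (homSheafMap φ J).hom.app U h = φ ≫ h := rfl

/-- Sections of an injective abelian sheaf are injective groups. -/
theorem injective_sections (J : EtCoh.Ab X) [Injective J] (U : X.Etaleᵒᵖ) :
    Injective (J.obj.obj U) := by
  haveI : Injective ((sheafToPresheaf X.smallEtaleTopology AddCommGrpCat.{u + 1}).obj J) :=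
    Injective.injective_of_adjoint (sheafificationAdjunction X.smallEtaleTopology AddCommGrpCat.{u + 1}) _
  haveI : (evaluation X.Etaleᵒᵖ AddCommGrpCat.{u + 1}).obj U |>.IsRightAdjoint :=
    (evaluationAdjunctionRight AddCommGrpCat.{u + 1} U).isRightAdjoint
  haveI : (evaluationLeftAdjoint AddCommGrpCat.{u + 1} U).PreservesMonomorphisms := by
    constructor
    intro A B f hf
    haveI : ∀ V, Mono (((evaluationLeftAdjoint AddCommGrpCat.{u + 1} U).map f).app V) := fun V => by
      change Mono (Limits.Sigma.map fun _ : (U ⟶ V) => f)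
      haveI : AB4OfSize.{u} AddCommGrpCat.{u + 1} := AB4OfSize_shrink.{u, u + 1} _
      haveI : HasExactColimitsOfShape (Discrete (U ⟶ V)) AddCommGrpCat.{u + 1} := inferInstance
      haveI : PreservesFiniteLimits
          (colim : (Discrete (U ⟶ V) ⥤ AddCommGrpCat.{u + 1}) ⥤ _) :=
        HasExactColimitsOfShape.preservesFiniteLimits
      haveI : ∀ d : Discrete (U ⟶ V), Mono ((Discrete.natTrans
          (F := Discrete.functor fun _ : (U ⟶ V) => A)
          (G := Discrete.functor fun _ : (U ⟶ V) => B) fun _ => f).app d) := fun d => hf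
      haveI : Mono (Discrete.natTrans (F := Discrete.functor fun _ : (U ⟶ V) => A)
          (G := Discrete.functor fun _ : (U ⟶ V) => B) fun _ => f) := NatTrans.mono_of_mono_app _
      exact inferInstanceAs (Mono (colim.map (Discrete.natTrans
        (F := Discrete.functor fun _ : (U ⟶ V) => A)
        (G := Discrete.functor fun _ : (U ⟶ V) => B) fun _ => f)))
    exact NatTrans.mono_of_mono_app _
  exact Injective.injective_of_adjoint (evaluationAdjunctionRight AddCommGrpCat.{u + 1} U)
    ((sheafToPresheaf X.smallEtaleTopology AddCommGrpCat.{u + 1}).obj J)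

/-- The free group on the elements of `M`. -/
noncomputable abbrev freeOn (M : AddCommGrpCat.{u + 1}) : AddCommGrpCat.{u + 1} :=
  AddCommGrpCat.of (↑M →₀ ℤ)

/-- the evaluation `free M ⟶ M` -/
noncomputable def freeπ (M : AddCommGrpCat.{u + 1}) : freeOn M ⟶ M :=
  AddCommGrpCat.ofHom (Finsupp.liftAddHom fun m : M => (zmultiplesHom M) m)

theorem freeπ_surjective (M : AddCommGrpCat.{u + 1}) : Function.Surjective (freeπ M) := fun m =>
  ⟨Finsupp.single m 1, by simp [freeπ]⟩

/-- `U ↦ Hom(free M, J U)` is injective. -/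
theorem injective_homSheaf_free (M : AddCommGrpCat.{u + 1}) (J : EtCoh.Ab X) [Injective J] :
    Injective ((homSheaf (freeOn M)).obj J) := by
  refine ⟨fun {F G} g f hf => ?_⟩
  -- the components
  let c : ↑M → (F ⟶ J) := fun a =>
    ⟨{ app := fun U => AddCommGrpCat.ofHom
        { toFun := fun x => ev (g.hom.app U x) (Finsupp.single a 1)
          map_zero' := by simp only [map_zero]; rfl
          map_add' := fun x y => by simp only [map_add]; rfl }
       naturality := fun U V i => by
        ext x
        have h := ConcreteCategory.congr_hom (g.hom.naturality i) x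
        exact congrArg (fun q : freeOn M ⟶ J.obj.obj V => q (Finsupp.single a 1)) h }⟩
  let e : ↑M → (G ⟶ J) := fun a => Injective.factorThru (c a) f
  have he : ∀ a, f ≫ e a = c a := fun a => Injective.comp_factorThru _ _
  refine ⟨⟨{ app := fun U => AddCommGrpCat.ofHom
              { toFun := fun x => AddCommGrpCat.ofHom (Finsupp.liftAddHom fun a : M =>
                  (zmultiplesHom (J.obj.obj U)) ((e a).hom.app U x))
                map_zero' := by
                  refine AddCommGrpCat.hom_ext (Finsupp.addHom_ext fun a n => ?_)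
                  change _ = (0 : freeOn M ⟶ J.obj.obj U) (Finsupp.single a n)
                  simp
                map_add' := fun x y => by
                  refine AddCommGrpCat.hom_ext (Finsupp.addHom_ext fun a n => ?_)
                  change _ = (AddCommGrpCat.Hom.hom (AddCommGrpCat.ofHom (Finsupp.liftAddHom fun a : M =>
                      (zmultiplesHom (J.obj.obj U)) ((e a).hom.app U x)))) (Finsupp.single a n) +
                    (AddCommGrpCat.Hom.hom (AddCommGrpCat.ofHom (Finsupp.liftAddHom fun a : M =>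
                      (zmultiplesHom (J.obj.obj U)) ((e a).hom.app U y)))) (Finsupp.single a n)
                  simp [smul_add] }
             naturality := fun U V i => by
              ext x
              refine AddCommGrpCat.hom_ext (Finsupp.addHom_ext fun a n => ?_)
              have h := ConcreteCategory.congr_hom ((e a).hom.naturality i) x
              simp only [ConcreteCategory.comp_apply] at h
              change (Finsupp.liftAddHom fun a : M => (zmultiplesHom (J.obj.obj V))
                ((e a).hom.app V (G.obj.map i x))) (Finsupp.single a n) =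
                J.obj.map i ((Finsupp.liftAddHom fun a : M => (zmultiplesHom (J.obj.obj U))
                ((e a).hom.app U x)) (Finsupp.single a n))
              simp [h] }⟩, ?_⟩
  refine ObjectProperty.hom_ext _ ?_
  ext U x
  refine AddCommGrpCat.hom_ext (Finsupp.addHom_ext fun a n => ?_)
  have h := ConcreteCategory.congr_hom (congrArg (fun q : F ⟶ J => q.hom.app U) (he a)) x
  change (e a).hom.app U (f.hom.app U x) = ev (g.hom.app U x) (Finsupp.single a 1) at h
  change (Finsupp.liftAddHom fun a : M => (zmultiplesHom (J.obj.obj U))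
      ((e a).hom.app U (f.hom.app U x))) (Finsupp.single a n) =
    (ev (g.hom.app U x)).hom (Finsupp.single a n)
  rw [show Finsupp.single a n = n • Finsupp.single a (1 : ℤ) by simp, map_zsmul, map_zsmul]
  simp [h]

/-- The short complex `Hom(M, J) → Hom(free M, J) → Hom(K, J)`. -/
noncomputable def homSheafSeq (M : AddCommGrpCat.{u + 1}) (J : EtCoh.Ab X) :
    ShortComplex (EtCoh.Ab X) :=
  ShortComplex.mk (homSheafMap (freeπ M) J)
    (homSheafMap (AddCommGrpCat.ofHom (freeπ M).hom.ker.subtype) J) (by
      refine ObjectProperty.hom_ext _ ?_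
      ext U h
      refine AddCommGrpCat.hom_ext (AddMonoidHom.ext fun k => ?_)
      change ev h ((freeπ M) k.1) = (0 : _ ⟶ J.obj.obj U) k
      rw [show (freeπ M) k.1 = 0 from k.2, map_zero]
      rfl)

theorem homSheafSeq_exact (M : AddCommGrpCat.{u + 1}) (J : EtCoh.Ab X) [Injective J]
    (U : X.Etaleᵒᵖ) :
    Function.Injective ((homSheafSeq M J).f.hom.app U) ∧
      Function.Exact ((homSheafSeq M J).f.hom.app U) ((homSheafSeq M J).g.hom.app U) ∧
      Function.Surjective ((homSheafSeq M J).g.hom.app U) := by
  haveI := injective_sections J U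
  refine ⟨fun h h' e => ?_, fun q => ⟨fun hq => ?_, ?_⟩, fun k => ?_⟩
  · refine AddCommGrpCat.hom_ext (AddMonoidHom.ext fun m => ?_)
    obtain ⟨w, rfl⟩ := freeπ_surjective M m
    exact congrArg (fun z : freeOn M ⟶ J.obj.obj U => z w) e
  · obtain ⟨inv, hinv⟩ := (freeπ_surjective M).hasRightInverse
    have hk : ∀ w, (freeπ M) w = 0 → ev (M := freeOn M) q w = 0 := fun w hw =>
      congrArg (fun z : AddCommGrpCat.of (freeπ M).hom.ker ⟶ J.obj.obj U => z ⟨w, hw⟩) hq
    refine ⟨AddCommGrpCat.ofHom ((freeπ M).hom.liftOfRightInverse inv hinv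
      ⟨(ev (M := freeOn M) q).hom, hk⟩), ?_⟩
    refine AddCommGrpCat.hom_ext (AddMonoidHom.ext fun w => ?_)
    exact (freeπ M).hom.liftOfRightInverse_comp_apply inv hinv _ w
  · rintro ⟨h, rfl⟩
    exact ConcreteCategory.congr_hom
      (congrArg (fun t : (homSheafSeq M J).X₁ ⟶ (homSheafSeq M J).X₃ => t.hom.app U)
        (homSheafSeq M J).zero) h
  · haveI : Mono (AddCommGrpCat.ofHom (freeπ M).hom.ker.subtype) :=
      (AddCommGrpCat.mono_iff_injective _).2 Subtype.val_injective
    haveI hJ : Injective (((sheafToPresheaf X.smallEtaleTopology AddCommGrpCat.{u + 1}).obj J).obj U) :=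
      injective_sections J U
    exact ⟨Injective.factorThru (ev (M := AddCommGrpCat.of (freeπ M).hom.ker) k)
      (AddCommGrpCat.ofHom (freeπ M).hom.ker.subtype),
      Injective.comp_factorThru (ev (M := AddCommGrpCat.of (freeπ M).hom.ker) k)
        (AddCommGrpCat.ofHom (freeπ M).hom.ker.subtype)⟩

theorem homSheafSeq_shortExact (M : AddCommGrpCat.{u + 1}) (J : EtCoh.Ab X) [Injective J] :
    (homSheafSeq M J).ShortExact := by
  let ι := sheafToPresheaf X.smallEtaleTopology AddCommGrpCat.{u + 1}
  let L := presheafToSheaf X.smallEtaleTopology AddCommGrpCat.{u + 1}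
  haveI : ι.PreservesZeroMorphisms := inferInstance
  have hP : ((homSheafSeq M J).map ι).ShortExact :=
    { exact := by
        rw [ShortComplex.exact_iff_isZero_homology]
        refine Functor.isZero _ fun U => ?_
        have hU : (((homSheafSeq M J).map ι).map
            ((evaluation X.Etaleᵒᵖ AddCommGrpCat.{u + 1}).obj U)).Exact :=
          (ShortComplex.ab_exact_iff_function_exact _).2 (homSheafSeq_exact M J U).2.1
        exact ((ShortComplex.exact_iff_isZero_homology _).1 hU).of_iso
          (((homSheafSeq M J).map ι).mapHomologyIso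
            ((evaluation X.Etaleᵒᵖ AddCommGrpCat.{u + 1}).obj U)).symm
      mono_f := by
        haveI : ∀ U, Mono (((homSheafSeq M J).map ι).f.app U) := fun U =>
          (AddCommGrpCat.mono_iff_injective _).2 (homSheafSeq_exact M J U).1
        exact NatTrans.mono_of_mono_app _
      epi_g := by
        haveI : ∀ U, Epi (((homSheafSeq M J).map ι).g.app U) := fun U =>
          (AddCommGrpCat.epi_iff_surjective _).2 (homSheafSeq_exact M J U).2.2
        exact NatTrans.epi_of_epi_app _ }
  let a := (sheafificationAdjunction X.smallEtaleTopology AddCommGrpCat.{u + 1}).counit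
  refine ShortComplex.shortExact_of_iso ?_ (hP.map_of_exact L)
  exact ShortComplex.isoMk (asIso (a.app (homSheafSeq M J).X₁)) (asIso (a.app (homSheafSeq M J).X₂))
    (asIso (a.app (homSheafSeq M J).X₃)) (a.naturality (homSheafSeq M J).f).symm
    (a.naturality (homSheafSeq M J).g).symm

/-- `U ↦ Hom(M, J U)` has no higher cohomology. -/
theorem subsingleton_H_homSheaf (n : ℕ) : ∀ (M : AddCommGrpCat.{u + 1}) (J : EtCoh.Ab X)
    [Injective J], Subsingleton (EtCoh.H X ((homSheaf M).obj J) (n + 1)) := by
  induction n with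
  | zero =>
    intro M J _
    refine subsingleton_of_forall_eq 0 fun x => ?_
    haveI : Injective (homSheafSeq M J).X₂ := injective_homSheaf_free M J
    obtain ⟨y, hy⟩ := Ext.covariant_sequence_exact₁ _ (homSheafSeq_shortExact M J) x
      (Ext.eq_zero_of_injective _) (rfl : 0 + 1 = 1)
    obtain ⟨ψ, rfl⟩ := (Ext.mk₀_bijective _ _).2 y
    let t := (EtCore.constAdj X).homEquiv _ (homSheafSeq M J).X₃ ψ
    obtain ⟨z, hz⟩ := (homSheafSeq_exact M J (op (EtCoh.top X))).2.2 (t ⟨1⟩)
    let t' : AddCommGrpCat.of (ULift.{u + 1} ℤ) ⟶ (EtCore.gsec X).obj (homSheafSeq M J).X₂ :=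
      AddCommGrpCat.ofHom ((zmultiplesHom _ z).comp (AddEquiv.ulift (α := ℤ)).toAddMonoidHom)
    have ht : t' ≫ (EtCore.gsec X).map (homSheafSeq M J).g = t := by
      refine AddCommGrpCat.hom_ext (AddMonoidHom.ext fun k => ?_)
      obtain ⟨k⟩ := k
      change (homSheafSeq M J).g.hom.app (op (EtCoh.top X)) (k • z) = t ⟨k⟩
      rw [map_zsmul, hz]
      refine ((map_zsmul t.hom k ⟨1⟩).symm).trans ?_
      congr 1
      exact ULift.ext _ _ (by simp)
    have hψ : ((EtCore.constAdj X).homEquiv _ _).symm t' ≫ (homSheafSeq M J).g = ψ := by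
      rw [← Adjunction.homEquiv_naturality_right_symm, ht, Equiv.symm_apply_apply]
    rw [← hy, ← hψ, ← Ext.mk₀_comp_mk₀,
      Ext.comp_assoc_of_second_deg_zero, ShortComplex.ShortExact.comp_extClass, Ext.comp_zero]
  | succ n ih =>
    intro M J _
    refine subsingleton_of_forall_eq 0 fun x => ?_
    haveI : Injective (homSheafSeq M J).X₂ := injective_homSheaf_free M J
    obtain ⟨y, hy⟩ := Ext.covariant_sequence_exact₁ _ (homSheafSeq_shortExact M J) x
      (Ext.eq_zero_of_injective _) (rfl : (n + 1) + 1 = n + 2)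
    haveI : Subsingleton (EtCoh.H X (homSheafSeq M J).X₃ (n + 1)) :=
      ih (AddCommGrpCat.of (freeπ M).hom.ker) J
    rw [← hy, Subsingleton.elim (α := EtCoh.H X (homSheafSeq M J).X₃ (n + 1)) y 0, Ext.zero_comp]

end Groth.Agent.EtSixLib
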